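import Mathlib

universe u v w x y
namespace Groth.Agent.SmallH9h
open MvPolynomial

/-- set the first variable to zero -/
noncomputable def z0 (R : Type u) [CommRing R] : MvPolynomial (Fin 2) R →ₐ[R] Polynomial R :=
  aeval ![(0 : Polynomial R), Polynomial.X]

lemma X_dvd_of_z0 {R : Type u} [CommRing R] (r : MvPolynomial (Fin 2) R) (h : z0 R r = 0) :
    X 0 ∣ r := by
  let ι : Polynomial R →ₐ[R] MvPolynomial (Fin 2) R := Polynomial.aeval (X 1)
  let q := Ideal.Quotient.mkₐ R (Ideal.span ({X 0} : Set (MvPolynomial (Fin 2) R)))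
  have he : (q.comp ι).comp (z0 R) = q := by
    refine MvPolynomial.algHom_ext fun i => ?_
    fin_cases i
    · simp [q, z0, ι, eq_comm, Ideal.Quotient.eq_zero_iff_mem, Ideal.mem_span_singleton]
    · simp [q, z0, ι]
  have := AlgHom.congr_fun he r
  rw [AlgHom.comp_apply, h, map_zero] at this
  exact Ideal.mem_span_singleton.1 (Ideal.Quotient.eq_zero_iff_mem.1 this.symm)

lemma saturation {R : Type u} [CommRing R] (g : MvPolynomial (Fin 2) R)
    (hg : ∀ r : Polynomial R, z0 R g * r = 0 → r = 0)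
    (s : MvPolynomial (Fin 2) R) :
    (∃ n : ℕ, X 0 ^ n * s ∈ Ideal.span ({X 0 ^ 2 * g} : Set (MvPolynomial (Fin 2) R))) ↔
      s ∈ Ideal.span ({g} : Set (MvPolynomial (Fin 2) R)) := by
  simp only [Ideal.mem_span_singleton]
  refine ⟨?_, fun ⟨r, hr⟩ => ⟨2, r, by rw [hr]; ring⟩⟩
  rintro ⟨n, hn⟩
  have key : ∀ n : ℕ, ∀ s, g ∣ X 0 ^ n * s → g ∣ s := by
    intro n
    induction n with
    | zero => simp
    | succ n ih =>
      intro s ⟨r, hr⟩
      refine ih s ?_
      obtain ⟨r', rfl⟩ := X_dvd_of_z0 r (hg _ (by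
        rw [← map_mul, ← hr, map_mul, map_pow]
        simp [z0]))
      refine ⟨r', (isRegular_X (n := (0 : Fin 2))).left ?_⟩
      simp only
      linear_combination hr
  exact key n s ((dvd_mul_left g (X 0 ^ 2)).trans hn)

theorem nodal_cubic (R : Type u) [CommRing R] (a₁ a₂ : R) :
    (∀ s : MvPolynomial (Fin 2) R,
      (∃ n : ℕ, X 0 ^ n * s ∈ Ideal.span ({X 0 ^ 2 * (1 + C a₁ * X 1 - X 0 * X 1 ^ 3 - C a₂ * X 1 ^ 2)} :
        Set (MvPolynomial (Fin 2) R))) ↔
      s ∈ Ideal.span ({1 + C a₁ * X 1 - X 0 * X 1 ^ 3 - C a₂ * X 1 ^ 2} : Set (MvPolynomial (Fin 2) R))) ∧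
    (∀ s : MvPolynomial (Fin 2) R,
      (∃ n : ℕ, X 0 ^ n * s ∈ Ideal.span ({X 0 ^ 2 * (X 1 ^ 2 + C a₁ * X 1 - X 0 - C a₂)} :
        Set (MvPolynomial (Fin 2) R))) ↔
      s ∈ Ideal.span ({X 1 ^ 2 + C a₁ * X 1 - X 0 - C a₂} : Set (MvPolynomial (Fin 2) R))) := by
  refine ⟨fun s => saturation _ (fun r hr => ?_) s, fun s => saturation _ (fun r hr => ?_) s⟩
  · have hd : ∀ k, r.coeff k = 0 := by
      intro k
      induction k using Nat.strong_induction_on with
      | _ k ih =>
        have := congrArg (fun p => Polynomial.coeff p k) hr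
        simp [z0, add_mul, sub_mul, mul_assoc, Polynomial.coeff_X_pow_mul'] at this
        rcases k with _ | _ | k
        · simpa using this
        · simpa [ih 0 (by omega), Polynomial.coeff_X_mul] using this
        · simpa [ih k (by omega), ih (k+1) (by omega), Polynomial.coeff_X_mul] using this
    ext k; simpa using hd k
  · have hm : (z0 R (X 1 ^ 2 + C a₁ * X 1 - X 0 - C a₂)).Monic := by
      simp only [z0, map_sub, map_add, map_mul, map_pow, aeval_X, aeval_C,
        Polynomial.algebraMap_eq, Matrix.cons_val_zero, Matrix.cons_val_one, Matrix.cons_val_fin_one,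
        sub_zero]
      rw [add_sub_assoc]
      refine Polynomial.monic_X_pow_add ?_
      refine lt_of_le_of_lt (b := (1 : WithBot ℕ)) ?_ (by norm_num)
      refine (Polynomial.degree_sub_le _ _).trans (max_le ?_ (Polynomial.degree_C_le.trans zero_le_one))
      exact (Polynomial.degree_C_mul_X_le a₁)
    exact hm.mul_right_eq_zero_iff.1 hr

theorem ker_eq_span
    {R : Type u} [CommRing R] {A : Type v} {B : Type w} {C : Type x}
    [CommRing A] [CommRing B] [CommRing C] [Algebra R A] [Algebra R B] [Algebra R C]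
    (i : A →ₐ[R] B) (j : A →ₐ[R] C)
    (hinj : ∀ t : A, i t = 0 → j t = 0 → t = 0)
    (c : B) (hc : c ∈ nonZeroDivisors B)
    (ζ : A) (hiζ : i ζ = c) (hjζ : j ζ = 0)
    {σ τ ιp ιq ιv : Type y}
    (η : MvPolynomial (Option σ) R →ₐ[R] A) (hη : η (MvPolynomial.X none) = ζ)
    (a : MvPolynomial τ R →ₐ[R] B)
    (ηZ : MvPolynomial (Option σ) R →ₐ[R] MvPolynomial τ R)
    (hcomm : ∀ t, a (ηZ t) = i (η t)) (hηZ : Function.Surjective ηZ)
    (cZ : MvPolynomial τ R) (hcZ : a cZ = c)
    (p : ιp → MvPolynomial σ R)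
    (hp : Ideal.span (Set.range p) =
      RingHom.ker ((j.comp η).comp (MvPolynomial.rename (Option.some : σ → Option σ))))
    (q' : ιq → MvPolynomial τ R) (hq' : Ideal.span (Set.range q') = RingHom.ker a)
    (q : ιq → MvPolynomial (Option σ) R) (hq : ∀ h, ηZ (q h) = q' h)
    (v : ιv → MvPolynomial (Option σ) R) (hv : Ideal.span (Set.range v) = RingHom.ker ηZ)
    (g' : ιp → MvPolynomial τ R)
    (hg' : ∀ h, ηZ (MvPolynomial.rename (Option.some : σ → Option σ) (p h)) + g' h * cZ ∈
      Ideal.span (Set.range q'))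
    (g : ιp → MvPolynomial (Option σ) R) (hg : ∀ h, ηZ (g h) = g' h) :
    RingHom.ker η = Ideal.span
      (Set.range (fun h : ιq => MvPolynomial.X none * q h) ∪
        Set.range (fun h : ιv => MvPolynomial.X none * v h) ∪
        Set.range (fun h : ιp =>
          MvPolynomial.rename (Option.some : σ → Option σ) (p h) + MvPolynomial.X none * g h)) := by
  set J := Ideal.span
      (Set.range (fun h : ιq => MvPolynomial.X none * q h) ∪
        Set.range (fun h : ιv => MvPolynomial.X none * v h) ∪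
        Set.range (fun h : ιp =>
          MvPolynomial.rename (Option.some : σ → Option σ) (p h) + MvPolynomial.X none * g h)) with hJ
  have hq0 : ∀ h, a (q' h) = 0 := fun h =>
    RingHom.mem_ker.1 (hq' ▸ Ideal.subset_span (Set.mem_range_self h))
  have hv0 : ∀ h, ηZ (v h) = 0 := fun h =>
    RingHom.mem_ker.1 (hv ▸ Ideal.subset_span (Set.mem_range_self h))
  have hle : J ≤ RingHom.ker η := by
    rw [hJ, Ideal.span_le]
    rintro _ ((⟨h, rfl⟩ | ⟨h, rfl⟩) | ⟨h, rfl⟩) <;> refine RingHom.mem_ker.2 (hinj _ ?_ ?_)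
    · simp [hη, hiζ, ← hcomm (q h), hq, hq0]
    · simp [hη, hjζ]
    · simp [hη, hiζ, ← hcomm (v h), hv0]
    · simp [hη, hjζ]
    · have h1 : a (ηZ (rename Option.some (p h)) + g' h * cZ) = 0 :=
        RingHom.mem_ker.1 (hq' ▸ hg' h)
      simp only [map_add, map_mul, hη, hiζ, ← hcomm (g h), ← hcomm (rename Option.some (p h)), hg]
      rw [map_add, map_mul, hcZ] at h1
      linear_combination h1
    · have h1 : (j.comp η).comp (rename (Option.some : σ → Option σ)) (p h) = 0 :=
        RingHom.mem_ker.1 (hp ▸ Ideal.subset_span (Set.mem_range_self h))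
      simp only [AlgHom.comp_apply] at h1
      simp [hη, hjζ, h1]
  -- `Z * (q, v) ⊆ J`
  let Q : Ideal (MvPolynomial (Option σ) R) := Ideal.span (Set.range q ∪ Set.range v)
  have hQ : ∀ t ∈ Q, X none * t ∈ J := by
    intro t ht
    induction ht using Submodule.span_induction with
    | mem t ht =>
      rcases ht with ⟨h, rfl⟩ | ⟨h, rfl⟩
      · exact Ideal.subset_span (Or.inl (Or.inl ⟨h, rfl⟩))
      · exact Ideal.subset_span (Or.inl (Or.inr ⟨h, rfl⟩))
    | zero => simp
    | add s t _ _ hs ht => rw [mul_add]; exact add_mem hs ht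
    | smul r t _ ht => rw [smul_eq_mul, mul_left_comm]; exact J.mul_mem_left r ht
  -- split off the part without `Z`
  have hsplit : ∀ t : MvPolynomial (Option σ) R, ∃ p₀ t', t = rename Option.some p₀ + X none * t' := by
    intro t
    induction t using MvPolynomial.induction_on with
    | C r => exact ⟨MvPolynomial.C r, 0, by simp⟩
    | add s t hs ht =>
      obtain ⟨p₁, t₁, rfl⟩ := hs; obtain ⟨p₂, t₂, rfl⟩ := ht
      exact ⟨p₁ + p₂, t₁ + t₂, by rw [map_add]; ring⟩
    | mul_X t o ht =>
      obtain ⟨p₁, t₁, rfl⟩ := ht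
      rcases o with _ | s
      · exact ⟨0, rename Option.some p₁ + X none * t₁, by rw [map_zero]; ring⟩
      · exact ⟨p₁ * X s, t₁ * X (some s), by rw [map_mul, rename_X]; ring⟩
  refine le_antisymm (fun t ht => ?_) hle
  obtain ⟨p₀, t', rfl⟩ := hsplit t
  have ht0 : η (rename Option.some p₀) + ζ * η t' = 0 := by
    simpa [hη] using RingHom.mem_ker.1 ht
  have hp0 : p₀ ∈ Ideal.span (Set.range p) := by
    rw [hp, RingHom.mem_ker]
    have := congrArg j ht0
    simpa [hjζ] using this
  have hmem : ∃ t'', rename (Option.some : σ → Option σ) p₀ - X none * t'' ∈ J := by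
    clear ht ht0
    induction hp0 using Submodule.span_induction with
    | mem t ht =>
      obtain ⟨h, rfl⟩ := ht
      exact ⟨-g h, by rw [mul_neg, sub_neg_eq_add]; exact Ideal.subset_span (Or.inr ⟨h, rfl⟩)⟩
    | zero => exact ⟨0, by simp⟩
    | add s t _ _ hs ht =>
      obtain ⟨s', hs⟩ := hs; obtain ⟨t'', ht⟩ := ht
      exact ⟨s' + t'', by convert add_mem hs ht using 1; rw [map_add]; ring⟩
    | smul r t _ ht =>
      obtain ⟨t'', ht⟩ := ht
      exact ⟨rename Option.some r * t'', by
        convert J.mul_mem_left (rename Option.some r) ht using 1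
        rw [smul_eq_mul, map_mul]; ring⟩
  obtain ⟨t'', hd⟩ := hmem
  have h0 : η (rename Option.some p₀ - X none * t'') = 0 := RingHom.mem_ker.1 (hle hd)
  have h1 : ζ * η (t' + t'') = 0 := by
    simp [hη] at h0
    rw [map_add]
    linear_combination ht0 - h0
  have h2 : a (ηZ (t' + t'')) = 0 := by
    have := congrArg i h1
    rw [map_mul, map_zero, hiζ] at this
    rw [hcomm]
    exact (mem_nonZeroDivisors_iff.1 hc).1 _ this
  have h3 : t' + t'' ∈ Q := by
    have : ηZ (t' + t'') ∈ (Ideal.span (Set.range q)).map ηZ := by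
      rw [Ideal.map_span, ← Set.range_comp, show ⇑ηZ ∘ q = q' from funext hq, hq']
      exact h2
    obtain ⟨s, hs, hse⟩ := (Ideal.mem_map_iff_of_surjective ηZ hηZ).1 this
    have hk : t' + t'' - s ∈ Ideal.span (Set.range v) := by
      rw [hv, RingHom.mem_ker, map_sub, hse, sub_self]
    have := add_mem (Ideal.span_mono Set.subset_union_left hs : s ∈ Q)
      (Ideal.span_mono Set.subset_union_right hk : t' + t'' - s ∈ Q)
    rwa [add_sub_cancel] at this
  have := add_mem hd (hQ _ h3)
  convert this using 1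
  ring

end Groth.Agent.SmallH9h
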